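import Cfsg.Agent.CGT.He.T2N

set_option maxRecDepth 100000

namespace CL.CGT.He.T2

noncomputable section

def st0 : List Step := [.base (nat_lit 0),
  .base (nat_lit 2),
  .base (nat_lit 3),
  .base (nat_lit 4),
  .base (nat_lit 5),
  .base (nat_lit 6),
  .sym (nat_lit 0),
  .sym (nat_lit 1),
  .sym (nat_lit 2),
  .sym (nat_lit 3),
  .sym (nat_lit 4),
  .sym (nat_lit 5),
  .sym (nat_lit 6),
  .both (nat_lit 46) (nat_lit 1),
  .both (nat_lit 58) (nat_lit 1),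
  .both (nat_lit 80) (nat_lit 1),
  .both (nat_lit 84) (nat_lit 1),
  .both (nat_lit 38) (nat_lit 1),
  .both (nat_lit 50) (nat_lit 1),
  .both (nat_lit 42) (nat_lit 1),
  .both (nat_lit 88) (nat_lit 2),
  .both (nat_lit 54) (nat_lit 1),
  .both (nat_lit 34) (nat_lit 1),
  .both (nat_lit 62) (nat_lit 2),
  .both (nat_lit 38) (nat_lit 1),
  .both (nat_lit 42) (nat_lit 1),
  .both (nat_lit 68) (nat_lit 2),
  .both (nat_lit 46) (nat_lit 1),
  .both (nat_lit 74) (nat_lit 2),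
  .both (nat_lit 62) (nat_lit 2),
  .both (nat_lit 84) (nat_lit 1),
  .both (nat_lit 50) (nat_lit 1),
  .both (nat_lit 89) (nat_lit 2),
  .sym (nat_lit 6),
  .both (nat_lit 58) (nat_lit 1),
  .both (nat_lit 28) (nat_lit 2),
  .both (nat_lit 68) (nat_lit 2),
  .both (nat_lit 80) (nat_lit 1),
  .both (nat_lit 54) (nat_lit 1),
  .both (nat_lit 74) (nat_lit 2),
  .both (nat_lit 89) (nat_lit 2),
  .sym (nat_lit 5),
  .both (nat_lit 34) (nat_lit 1),
  .both (nat_lit 38) (nat_lit 1),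
  .both (nat_lit 62) (nat_lit 2),
  .both (nat_lit 58) (nat_lit 1),
  .both (nat_lit 68) (nat_lit 2),
  .both (nat_lit 42) (nat_lit 1),
  .both (nat_lit 46) (nat_lit 1),
  .both (nat_lit 34) (nat_lit 1),
  .both (nat_lit 74) (nat_lit 2),
  .both (nat_lit 62) (nat_lit 2),
  .both (nat_lit 128) (nat_lit 7),
  .sym (nat_lit 2),
  .sym (nat_lit 3),
  .both (nat_lit 58) (nat_lit 1),
  .both (nat_lit 54) (nat_lit 1),
  .both (nat_lit 50) (nat_lit 1),
  .both (nat_lit 84) (nat_lit 1),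
  .both (nat_lit 38) (nat_lit 1),
  .both (nat_lit 88) (nat_lit 2),
  .both (nat_lit 62) (nat_lit 2),
  .both (nat_lit 68) (nat_lit 2),
  .both (nat_lit 50) (nat_lit 1),
  .both (nat_lit 74) (nat_lit 2),
  .both (nat_lit 90) (nat_lit 2),
  .sym (nat_lit 5),
  .sym (nat_lit 6),
  .both (nat_lit 42) (nat_lit 1),
  .both (nat_lit 46) (nat_lit 1),
  .both (nat_lit 54) (nat_lit 1),
  .both (nat_lit 58) (nat_lit 1),
  .both (nat_lit 88) (nat_lit 2),
  .both (nat_lit 84) (nat_lit 1),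
  .both (nat_lit 80) (nat_lit 1),
  .both (nat_lit 68) (nat_lit 2),
  .both (nat_lit 74) (nat_lit 2),
  .both (nat_lit 46) (nat_lit 1),
  .both (nat_lit 84) (nat_lit 1),
  .both (nat_lit 91) (nat_lit 2),
  .sym (nat_lit 6),
  .both (nat_lit 58) (nat_lit 1),
  .both (nat_lit 74) (nat_lit 2),
  .both (nat_lit 62) (nat_lit 2),
  .both (nat_lit 50) (nat_lit 1),
  .both (nat_lit 89) (nat_lit 2),
  .sym (nat_lit 5),
  .both (nat_lit 80) (nat_lit 1),
  .both (nat_lit 38) (nat_lit 1),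
  .both (nat_lit 62) (nat_lit 2),
  .both (nat_lit 68) (nat_lit 2),
  .both (nat_lit 89) (nat_lit 2),
  .both (nat_lit 54) (nat_lit 1),
  .both (nat_lit 68) (nat_lit 2),
  .both (nat_lit 8) (nat_lit 1),
  .both (nat_lit 12) (nat_lit 1),
  .both (nat_lit 16) (nat_lit 1),
  .both (nat_lit 20) (nat_lit 1),
  .both (nat_lit 24) (nat_lit 1),
  .both (nat_lit 8) (nat_lit 1),
  .both (nat_lit 12) (nat_lit 1),
  .both (nat_lit 20) (nat_lit 1),
  .both (nat_lit 16) (nat_lit 1),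
  .both (nat_lit 24) (nat_lit 1),
  .both (nat_lit 8) (nat_lit 1),
  .both (nat_lit 46) (nat_lit 1),
  .both (nat_lit 42) (nat_lit 1),
  .both (nat_lit 58) (nat_lit 1),
  .both (nat_lit 74) (nat_lit 2),
  .both (nat_lit 62) (nat_lit 2),
  .both (nat_lit 80) (nat_lit 1),
  .both (nat_lit 50) (nat_lit 1),
  .both (nat_lit 68) (nat_lit 2),
  .both (nat_lit 54) (nat_lit 1),
  .both (nat_lit 89) (nat_lit 2),
  .sym (nat_lit 5),
  .both (nat_lit 68) (nat_lit 2),
  .both (nat_lit 62) (nat_lit 2),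
  .both (nat_lit 90) (nat_lit 2),
  .both (nat_lit 128) (nat_lit 7),
  .sym (nat_lit 2),
  .sym (nat_lit 3),
  .both (nat_lit 50) (nat_lit 1),
  .both (nat_lit 54) (nat_lit 1),
  .both (nat_lit 68) (nat_lit 2),
  .both (nat_lit 74) (nat_lit 2),
  .both (nat_lit 89) (nat_lit 2),
  .sym (nat_lit 5),
  .sym (nat_lit 6),
  .both (nat_lit 42) (nat_lit 1),
  .both (nat_lit 54) (nat_lit 1),
  .both (nat_lit 80) (nat_lit 1),
  .both (nat_lit 46) (nat_lit 1),
  .both (nat_lit 58) (nat_lit 1),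
  .both (nat_lit 84) (nat_lit 1),
  .both (nat_lit 68) (nat_lit 2),
  .both (nat_lit 62) (nat_lit 2),
  .both (nat_lit 74) (nat_lit 2),
  .both (nat_lit 84) (nat_lit 1),
  .both (nat_lit 89) (nat_lit 2),
  .sym (nat_lit 5),
  .both (nat_lit 50) (nat_lit 1),
  .both (nat_lit 46) (nat_lit 1),
  .both (nat_lit 38) (nat_lit 1),
  .both (nat_lit 62) (nat_lit 2),
  .both (nat_lit 68) (nat_lit 2),
  .both (nat_lit 80) (nat_lit 1),
  .both (nat_lit 54) (nat_lit 1),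
  .both (nat_lit 88) (nat_lit 2),
  .both (nat_lit 42) (nat_lit 1),
  .both (nat_lit 58) (nat_lit 1),
  .both (nat_lit 38) (nat_lit 1),
  .both (nat_lit 50) (nat_lit 1),
  .both (nat_lit 62) (nat_lit 2),
  .both (nat_lit 89) (nat_lit 2),
  .both (nat_lit 28) (nat_lit 2),
  .both (nat_lit 74) (nat_lit 2),
  .both (nat_lit 58) (nat_lit 1),
  .both (nat_lit 12) (nat_lit 1),
  .both (nat_lit 128) (nat_lit 7),
  .sym (nat_lit 2),
  .sym (nat_lit 3),
  .both (nat_lit 50) (nat_lit 1),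
  .both (nat_lit 54) (nat_lit 1),
  .both (nat_lit 58) (nat_lit 1),
  .both (nat_lit 28) (nat_lit 2),
  .both (nat_lit 34) (nat_lit 1),
  .both (nat_lit 38) (nat_lit 1),
  .both (nat_lit 42) (nat_lit 1),
  .both (nat_lit 46) (nat_lit 1),
  .both (nat_lit 34) (nat_lit 1),
  .both (nat_lit 28) (nat_lit 2),
  .both (nat_lit 34) (nat_lit 1),
  .both (nat_lit 38) (nat_lit 1),
  .both (nat_lit 42) (nat_lit 1),
  .both (nat_lit 68) (nat_lit 2),
  .both (nat_lit 54) (nat_lit 1),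
  .both (nat_lit 80) (nat_lit 1),
  .both (nat_lit 88) (nat_lit 2),
  .both (nat_lit 68) (nat_lit 2),
  .both (nat_lit 42) (nat_lit 1),
  .both (nat_lit 80) (nat_lit 1),
  .both (nat_lit 68) (nat_lit 2),
  .both (nat_lit 54) (nat_lit 1),
  .both (nat_lit 74) (nat_lit 2),
  .both (nat_lit 91) (nat_lit 2),
  .sym (nat_lit 6),
  .both (nat_lit 58) (nat_lit 1),
  .both (nat_lit 74) (nat_lit 2),
  .both (nat_lit 46) (nat_lit 1),
  .both (nat_lit 84) (nat_lit 1),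
  .both (nat_lit 62) (nat_lit 2),
  .both (nat_lit 84) (nat_lit 1),
  .both (nat_lit 88) (nat_lit 2),
  .both (nat_lit 74) (nat_lit 2),
  .both (nat_lit 42) (nat_lit 1),
  .both (nat_lit 58) (nat_lit 1),
  .both (nat_lit 46) (nat_lit 1),
  .both (nat_lit 62) (nat_lit 2),
  .both (nat_lit 128) (nat_lit 7),
  .sym (nat_lit 2),
  .sym (nat_lit 3),
  .both (nat_lit 34) (nat_lit 1),
  .both (nat_lit 62) (nat_lit 2),
  .both (nat_lit 80) (nat_lit 1),
  .both (nat_lit 50) (nat_lit 1),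
  .both (nat_lit 68) (nat_lit 2),
  .both (nat_lit 54) (nat_lit 1),
  .both (nat_lit 80) (nat_lit 1),
  .both (nat_lit 88) (nat_lit 2),
  .both (nat_lit 38) (nat_lit 1),
  .both (nat_lit 62) (nat_lit 2),
  .both (nat_lit 74) (nat_lit 2),
  .both (nat_lit 84) (nat_lit 1),
  .both (nat_lit 58) (nat_lit 1),
  .both (nat_lit 89) (nat_lit 2),
  .both (nat_lit 68) (nat_lit 2),
  .both (nat_lit 62) (nat_lit 2),
  .both (nat_lit 111) (nat_lit 5),
  .both (nat_lit 50) (nat_lit 1),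
  .both (nat_lit 54) (nat_lit 1),
  .both (nat_lit 58) (nat_lit 1),
  .both (nat_lit 28) (nat_lit 2),
  .both (nat_lit 34) (nat_lit 1),
  .both (nat_lit 38) (nat_lit 1),
  .both (nat_lit 42) (nat_lit 1),
  .both (nat_lit 46) (nat_lit 1),
  .both (nat_lit 34) (nat_lit 1),
  .both (nat_lit 38) (nat_lit 1),
  .both (nat_lit 42) (nat_lit 1),
  .both (nat_lit 46) (nat_lit 1),
  .both (nat_lit 28) (nat_lit 2),
  .both (nat_lit 54) (nat_lit 1),
  .both (nat_lit 58) (nat_lit 1),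
  .both (nat_lit 68) (nat_lit 2),
  .both (nat_lit 128) (nat_lit 7),
  .sym (nat_lit 2),
  .sym (nat_lit 3),
  .both (nat_lit 34) (nat_lit 1),
  .both (nat_lit 74) (nat_lit 2),
  .both (nat_lit 62) (nat_lit 2),
  .both (nat_lit 84) (nat_lit 1),
  .both (nat_lit 89) (nat_lit 2),
  .sym (nat_lit 5),
  .both (nat_lit 80) (nat_lit 1),
  .both (nat_lit 68) (nat_lit 2),
  .both (nat_lit 80) (nat_lit 1),
  .both (nat_lit 89) (nat_lit 2),
  .both (nat_lit 62) (nat_lit 2),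
  .both (nat_lit 68) (nat_lit 2),
  .both (nat_lit 74) (nat_lit 2),
  .both (nat_lit 84) (nat_lit 1),
  .both (nat_lit 54) (nat_lit 1),
  .both (nat_lit 58) (nat_lit 1),
  .both (nat_lit 91) (nat_lit 2),
  .sym (nat_lit 6),
  .both (nat_lit 50) (nat_lit 1),
  .both (nat_lit 46) (nat_lit 1),
  .both (nat_lit 68) (nat_lit 2),
  .both (nat_lit 38) (nat_lit 1),
  .both (nat_lit 42) (nat_lit 1),
  .both (nat_lit 80) (nat_lit 1),
  .both (nat_lit 74) (nat_lit 2),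
  .both (nat_lit 62) (nat_lit 2),
  .both (nat_lit 28) (nat_lit 2),
  .both (nat_lit 34) (nat_lit 1),
  .both (nat_lit 38) (nat_lit 1),
  .both (nat_lit 42) (nat_lit 1),
  .both (nat_lit 28) (nat_lit 2),
  .both (nat_lit 46) (nat_lit 1),
  .both (nat_lit 34) (nat_lit 1),
  .both (nat_lit 38) (nat_lit 1),
  .both (nat_lit 42) (nat_lit 1),
  .both (nat_lit 127) (nat_lit 7),
  .sym (nat_lit 3),
  .both (nat_lit 68) (nat_lit 2),
  .both (nat_lit 74) (nat_lit 2),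
  .both (nat_lit 62) (nat_lit 2),
  .both (nat_lit 80) (nat_lit 1),
  .both (nat_lit 84) (nat_lit 1),
  .both (nat_lit 38) (nat_lit 1),
  .both (nat_lit 89) (nat_lit 2),
  .both (nat_lit 62) (nat_lit 2),
  .both (nat_lit 68) (nat_lit 2),
  .both (nat_lit 46) (nat_lit 1),
  .both (nat_lit 50) (nat_lit 1),
  .both (nat_lit 74) (nat_lit 2),
  .both (nat_lit 89) (nat_lit 2),
  .both (nat_lit 38) (nat_lit 1),
  .both (nat_lit 80) (nat_lit 1),
  .both (nat_lit 62) (nat_lit 2),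
  .both (nat_lit 54) (nat_lit 1),
  .both (nat_lit 58) (nat_lit 1),
  .both (nat_lit 68) (nat_lit 2),
  .both (nat_lit 42) (nat_lit 1),
  .both (nat_lit 80) (nat_lit 1),
  .both (nat_lit 84) (nat_lit 1),
  .both (nat_lit 74) (nat_lit 2),
  .both (nat_lit 68) (nat_lit 2),
  .both (nat_lit 88) (nat_lit 2),
  .both (nat_lit 62) (nat_lit 2),
  .both (nat_lit 8) (nat_lit 1),
  .both (nat_lit 127) (nat_lit 7),
  .sym (nat_lit 3),
  .both (nat_lit 34) (nat_lit 1),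
  .both (nat_lit 62) (nat_lit 2),
  .both (nat_lit 80) (nat_lit 1),
  .both (nat_lit 84) (nat_lit 1),
  .both (nat_lit 88) (nat_lit 2),
  .both (nat_lit 68) (nat_lit 2),
  .both (nat_lit 62) (nat_lit 2),
  .both (nat_lit 74) (nat_lit 2),
  .both (nat_lit 90) (nat_lit 2),
  .sym (nat_lit 5),
  .sym (nat_lit 6),
  .both (nat_lit 84) (nat_lit 1),
  .both (nat_lit 80) (nat_lit 1),
  .both (nat_lit 68) (nat_lit 2),
  .both (nat_lit 90) (nat_lit 2),
  .sym (nat_lit 5),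
  .both (nat_lit 80) (nat_lit 1),
  .both (nat_lit 74) (nat_lit 2),
  .both (nat_lit 54) (nat_lit 1),
  .both (nat_lit 68) (nat_lit 2),
  .both (nat_lit 58) (nat_lit 1),
  .both (nat_lit 84) (nat_lit 1),
  .both (nat_lit 50) (nat_lit 1),
  .both (nat_lit 74) (nat_lit 2),
  .both (nat_lit 80) (nat_lit 1),
  .both (nat_lit 127) (nat_lit 7),
  .sym (nat_lit 3),
  .both (nat_lit 68) (nat_lit 2),
  .both (nat_lit 74) (nat_lit 2),
  .both (nat_lit 62) (nat_lit 2),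
  .both (nat_lit 80) (nat_lit 1)]

theorem run0 : sub K1 (runK B ns (ivT IVc 7) RT LT 144 125 st0 (treeK B ns [nat_lit 1, nat_lit 2, nat_lit 3,
    nat_lit 4, nat_lit 5, nat_lit 6, nat_lit 0, nat_lit 1, nat_lit 2, nat_lit 3, nat_lit 4, nat_lit 5,
    nat_lit 6, nat_lit 1, nat_lit 2, nat_lit 3, nat_lit 4, nat_lit 5, nat_lit 6, nat_lit 1, nat_lit 2,
    nat_lit 3, nat_lit 4, nat_lit 5, nat_lit 6, nat_lit 1, nat_lit 2, nat_lit 3, nat_lit 4, nat_lit 5,
    nat_lit 6, nat_lit 1, nat_lit 2, nat_lit 3, nat_lit 4, nat_lit 5, nat_lit 6, nat_lit 1, nat_lit 2,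
    nat_lit 3, nat_lit 2, nat_lit 1] 1 0)) = true := by
  decide +kernel

def st1 : List Step := [.both (nat_lit 84) (nat_lit 1),
  .both (nat_lit 68) (nat_lit 2),
  .both (nat_lit 88) (nat_lit 2),
  .both (nat_lit 74) (nat_lit 2),
  .both (nat_lit 89) (nat_lit 2),
  .both (nat_lit 110) (nat_lit 5),
  .both (nat_lit 20) (nat_lit 1),
  .both (nat_lit 24) (nat_lit 1),
  .both (nat_lit 12) (nat_lit 1),
  .both (nat_lit 0) (nat_lit 3),
  .both (nat_lit 8) (nat_lit 1),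
  .both (nat_lit 16) (nat_lit 1),
  .both (nat_lit 20) (nat_lit 1),
  .both (nat_lit 12) (nat_lit 1),
  .both (nat_lit 24) (nat_lit 1),
  .both (nat_lit 8) (nat_lit 1),
  .both (nat_lit 16) (nat_lit 1),
  .both (nat_lit 20) (nat_lit 1),
  .both (nat_lit 12) (nat_lit 1),
  .both (nat_lit 16) (nat_lit 1),
  .both (nat_lit 20) (nat_lit 1),
  .both (nat_lit 8) (nat_lit 1),
  .both (nat_lit 24) (nat_lit 1),
  .both (nat_lit 12) (nat_lit 1),
  .both (nat_lit 20) (nat_lit 1),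
  .both (nat_lit 16) (nat_lit 1),
  .both (nat_lit 98) (nat_lit 4),
  .both (nat_lit 12) (nat_lit 1),
  .both (nat_lit 8) (nat_lit 1),
  .both (nat_lit 20) (nat_lit 1),
  .both (nat_lit 16) (nat_lit 1),
  .both (nat_lit 24) (nat_lit 1),
  .both (nat_lit 12) (nat_lit 1),
  .both (nat_lit 20) (nat_lit 1),
  .both (nat_lit 24) (nat_lit 1),
  .both (nat_lit 16) (nat_lit 1),
  .both (nat_lit 8) (nat_lit 1),
  .both (nat_lit 12) (nat_lit 1),
  .both (nat_lit 16) (nat_lit 1),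
  .both (nat_lit 20) (nat_lit 1),
  .both (nat_lit 24) (nat_lit 1),
  .both (nat_lit 8) (nat_lit 1),
  .both (nat_lit 12) (nat_lit 1),
  .both (nat_lit 100) (nat_lit 4),
  .both (nat_lit 12) (nat_lit 1),
  .both (nat_lit 16) (nat_lit 1),
  .both (nat_lit 20) (nat_lit 1),
  .both (nat_lit 24) (nat_lit 1),
  .both (nat_lit 8) (nat_lit 1),
  .both (nat_lit 12) (nat_lit 1),
  .both (nat_lit 16) (nat_lit 1),
  .both (nat_lit 20) (nat_lit 1),
  .both (nat_lit 24) (nat_lit 1),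
  .both (nat_lit 8) (nat_lit 1),
  .both (nat_lit 12) (nat_lit 1),
  .both (nat_lit 98) (nat_lit 4),
  .both (nat_lit 12) (nat_lit 1),
  .both (nat_lit 20) (nat_lit 1),
  .both (nat_lit 16) (nat_lit 1),
  .both (nat_lit 24) (nat_lit 1),
  .both (nat_lit 8) (nat_lit 1),
  .both (nat_lit 12) (nat_lit 1),
  .both (nat_lit 16) (nat_lit 1),
  .both (nat_lit 20) (nat_lit 1),
  .both (nat_lit 24) (nat_lit 1),
  .both (nat_lit 111) (nat_lit 5),
  .both (nat_lit 54) (nat_lit 1),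
  .both (nat_lit 50) (nat_lit 1),
  .both (nat_lit 58) (nat_lit 1),
  .both (nat_lit 28) (nat_lit 2),
  .both (nat_lit 34) (nat_lit 1),
  .both (nat_lit 42) (nat_lit 1),
  .both (nat_lit 38) (nat_lit 1),
  .both (nat_lit 46) (nat_lit 1),
  .both (nat_lit 34) (nat_lit 1),
  .both (nat_lit 28) (nat_lit 2),
  .both (nat_lit 97) (nat_lit 4),
  .both (nat_lit 12) (nat_lit 1),
  .both (nat_lit 16) (nat_lit 1),
  .both (nat_lit 20) (nat_lit 1),
  .both (nat_lit 24) (nat_lit 1),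
  .both (nat_lit 8) (nat_lit 1),
  .both (nat_lit 12) (nat_lit 1),
  .both (nat_lit 16) (nat_lit 1),
  .both (nat_lit 20) (nat_lit 1),
  .both (nat_lit 24) (nat_lit 1),
  .both (nat_lit 8) (nat_lit 1),
  .both (nat_lit 12) (nat_lit 1),
  .both (nat_lit 16) (nat_lit 1),
  .both (nat_lit 20) (nat_lit 1),
  .both (nat_lit 24) (nat_lit 1),
  .both (nat_lit 8) (nat_lit 1),
  .both (nat_lit 99) (nat_lit 4),
  .both (nat_lit 34) (nat_lit 1),
  .both (nat_lit 42) (nat_lit 1),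
  .both (nat_lit 38) (nat_lit 1),
  .both (nat_lit 46) (nat_lit 1),
  .both (nat_lit 34) (nat_lit 1),
  .both (nat_lit 12) (nat_lit 1),
  .both (nat_lit 38) (nat_lit 1),
  .both (nat_lit 42) (nat_lit 1),
  .both (nat_lit 46) (nat_lit 1),
  .both (nat_lit 54) (nat_lit 1),
  .both (nat_lit 68) (nat_lit 2),
  .both (nat_lit 58) (nat_lit 1),
  .both (nat_lit 74) (nat_lit 2),
  .both (nat_lit 89) (nat_lit 2),
  .sym (nat_lit 5),
  .sym (nat_lit 6),
  .both (nat_lit 58) (nat_lit 1),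
  .both (nat_lit 54) (nat_lit 1),
  .both (nat_lit 62) (nat_lit 2),
  .both (nat_lit 80) (nat_lit 1),
  .both (nat_lit 84) (nat_lit 1),
  .both (nat_lit 68) (nat_lit 2),
  .both (nat_lit 74) (nat_lit 2),
  .both (nat_lit 89) (nat_lit 2),
  .sym (nat_lit 6),
  .both (nat_lit 46) (nat_lit 1),
  .both (nat_lit 128) (nat_lit 7),
  .sym (nat_lit 2),
  .sym (nat_lit 3),
  .both (nat_lit 50) (nat_lit 1),
  .both (nat_lit 54) (nat_lit 1),
  .both (nat_lit 58) (nat_lit 1),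
  .both (nat_lit 34) (nat_lit 1),
  .both (nat_lit 68) (nat_lit 2),
  .both (nat_lit 62) (nat_lit 2),
  .both (nat_lit 80) (nat_lit 1),
  .both (nat_lit 28) (nat_lit 2),
  .both (nat_lit 34) (nat_lit 1),
  .both (nat_lit 42) (nat_lit 1),
  .both (nat_lit 38) (nat_lit 1),
  .both (nat_lit 46) (nat_lit 1),
  .both (nat_lit 34) (nat_lit 1),
  .both (nat_lit 74) (nat_lit 2),
  .both (nat_lit 90) (nat_lit 2),
  .sym (nat_lit 6),
  .both (nat_lit 54) (nat_lit 1),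
  .both (nat_lit 58) (nat_lit 1),
  .both (nat_lit 84) (nat_lit 1),
  .both (nat_lit 24) (nat_lit 1),
  .both (nat_lit 46) (nat_lit 1),
  .both (nat_lit 34) (nat_lit 1),
  .both (nat_lit 28) (nat_lit 2),
  .both (nat_lit 42) (nat_lit 1),
  .both (nat_lit 12) (nat_lit 1),
  .both (nat_lit 8) (nat_lit 1),
  .both (nat_lit 16) (nat_lit 1),
  .both (nat_lit 46) (nat_lit 1),
  .both (nat_lit 100) (nat_lit 4),
  .sym (nat_lit 0),
  .both (nat_lit 12) (nat_lit 1),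
  .both (nat_lit 20) (nat_lit 1),
  .both (nat_lit 16) (nat_lit 1),
  .both (nat_lit 8) (nat_lit 1),
  .both (nat_lit 24) (nat_lit 1),
  .both (nat_lit 62) (nat_lit 2),
  .both (nat_lit 34) (nat_lit 1),
  .both (nat_lit 112) (nat_lit 5),
  .both (nat_lit 54) (nat_lit 1),
  .both (nat_lit 58) (nat_lit 1),
  .both (nat_lit 50) (nat_lit 1),
  .both (nat_lit 28) (nat_lit 2),
  .both (nat_lit 34) (nat_lit 1),
  .both (nat_lit 74) (nat_lit 2),
  .both (nat_lit 12) (nat_lit 1),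
  .both (nat_lit 68) (nat_lit 2),
  .both (nat_lit 80) (nat_lit 1),
  .both (nat_lit 42) (nat_lit 1),
  .both (nat_lit 38) (nat_lit 1),
  .both (nat_lit 46) (nat_lit 1),
  .both (nat_lit 34) (nat_lit 1),
  .both (nat_lit 89) (nat_lit 2),
  .sym (nat_lit 6),
  .both (nat_lit 24) (nat_lit 1),
  .both (nat_lit 46) (nat_lit 1),
  .both (nat_lit 58) (nat_lit 1),
  .both (nat_lit 74) (nat_lit 2),
  .both (nat_lit 84) (nat_lit 1),
  .both (nat_lit 62) (nat_lit 2),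
  .both (nat_lit 68) (nat_lit 2),
  .both (nat_lit 90) (nat_lit 2),
  .sym (nat_lit 5),
  .sym (nat_lit 6),
  .both (nat_lit 58) (nat_lit 1),
  .both (nat_lit 54) (nat_lit 1),
  .both (nat_lit 46) (nat_lit 1),
  .both (nat_lit 74) (nat_lit 2),
  .both (nat_lit 20) (nat_lit 1),
  .both (nat_lit 80) (nat_lit 1),
  .both (nat_lit 92) (nat_lit 2),
  .sym (nat_lit 4),
  .sym (nat_lit 6),
  .both (nat_lit 42) (nat_lit 1),
  .both (nat_lit 58) (nat_lit 1),
  .both (nat_lit 46) (nat_lit 1),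
  .both (nat_lit 128) (nat_lit 7),
  .sym (nat_lit 2),
  .sym (nat_lit 3),
  .both (nat_lit 54) (nat_lit 1),
  .both (nat_lit 50) (nat_lit 1),
  .both (nat_lit 58) (nat_lit 1),
  .both (nat_lit 28) (nat_lit 2),
  .both (nat_lit 34) (nat_lit 1),
  .both (nat_lit 74) (nat_lit 2),
  .both (nat_lit 68) (nat_lit 2),
  .both (nat_lit 46) (nat_lit 1),
  .both (nat_lit 38) (nat_lit 1),
  .both (nat_lit 42) (nat_lit 1),
  .both (nat_lit 34) (nat_lit 1),
  .both (nat_lit 84) (nat_lit 1),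
  .both (nat_lit 58) (nat_lit 1),
  .both (nat_lit 89) (nat_lit 2),
  .sym (nat_lit 5),
  .both (nat_lit 54) (nat_lit 1),
  .both (nat_lit 80) (nat_lit 1),
  .both (nat_lit 114) (nat_lit 5),
  .sym (nat_lit 3),
  .both (nat_lit 50) (nat_lit 1),
  .both (nat_lit 54) (nat_lit 1),
  .both (nat_lit 58) (nat_lit 1),
  .both (nat_lit 28) (nat_lit 2),
  .both (nat_lit 8) (nat_lit 1),
  .both (nat_lit 34) (nat_lit 1),
  .both (nat_lit 46) (nat_lit 1),
  .both (nat_lit 42) (nat_lit 1),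
  .both (nat_lit 38) (nat_lit 1),
  .both (nat_lit 34) (nat_lit 1),
  .both (nat_lit 28) (nat_lit 2),
  .both (nat_lit 74) (nat_lit 2),
  .both (nat_lit 62) (nat_lit 2),
  .both (nat_lit 68) (nat_lit 2),
  .both (nat_lit 58) (nat_lit 1),
  .both (nat_lit 113) (nat_lit 5),
  .sym (nat_lit 2),
  .sym (nat_lit 3),
  .both (nat_lit 50) (nat_lit 1),
  .both (nat_lit 54) (nat_lit 1),
  .both (nat_lit 58) (nat_lit 1),
  .both (nat_lit 28) (nat_lit 2),
  .both (nat_lit 34) (nat_lit 1),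
  .both (nat_lit 42) (nat_lit 1),
  .both (nat_lit 38) (nat_lit 1),
  .both (nat_lit 46) (nat_lit 1),
  .both (nat_lit 34) (nat_lit 1),
  .both (nat_lit 100) (nat_lit 4),
  .sym (nat_lit 0),
  .sym (nat_lit 2),
  .both (nat_lit 12) (nat_lit 1),
  .both (nat_lit 111) (nat_lit 5),
  .sym (nat_lit 2),
  .sym (nat_lit 3),
  .both (nat_lit 34) (nat_lit 1),
  .both (nat_lit 54) (nat_lit 1),
  .both (nat_lit 28) (nat_lit 2),
  .both (nat_lit 58) (nat_lit 1),
  .both (nat_lit 74) (nat_lit 2),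
  .both (nat_lit 84) (nat_lit 1),
  .both (nat_lit 46) (nat_lit 1),
  .both (nat_lit 42) (nat_lit 1),
  .both (nat_lit 34) (nat_lit 1),
  .both (nat_lit 38) (nat_lit 1),
  .both (nat_lit 50) (nat_lit 1),
  .both (nat_lit 46) (nat_lit 1),
  .both (nat_lit 58) (nat_lit 1),
  .both (nat_lit 68) (nat_lit 2),
  .both (nat_lit 91) (nat_lit 2),
  .sym (nat_lit 5),
  .sym (nat_lit 6),
  .both (nat_lit 42) (nat_lit 1),
  .both (nat_lit 34) (nat_lit 1),
  .both (nat_lit 12) (nat_lit 1),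
  .both (nat_lit 54) (nat_lit 1),
  .both (nat_lit 80) (nat_lit 1),
  .both (nat_lit 8) (nat_lit 1),
  .both (nat_lit 62) (nat_lit 2),
  .both (nat_lit 46) (nat_lit 1),
  .both (nat_lit 20) (nat_lit 1),
  .both (nat_lit 113) (nat_lit 5),
  .sym (nat_lit 2),
  .sym (nat_lit 3),
  .both (nat_lit 54) (nat_lit 1),
  .both (nat_lit 50) (nat_lit 1),
  .both (nat_lit 58) (nat_lit 1),
  .both (nat_lit 74) (nat_lit 2),
  .both (nat_lit 80) (nat_lit 1),
  .both (nat_lit 42) (nat_lit 1),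
  .both (nat_lit 58) (nat_lit 1),
  .both (nat_lit 46) (nat_lit 1),
  .both (nat_lit 34) (nat_lit 1),
  .both (nat_lit 12) (nat_lit 1),
  .both (nat_lit 68) (nat_lit 2),
  .both (nat_lit 74) (nat_lit 2),
  .both (nat_lit 92) (nat_lit 2),
  .both (nat_lit 54) (nat_lit 1),
  .both (nat_lit 8) (nat_lit 1),
  .both (nat_lit 58) (nat_lit 1),
  .both (nat_lit 46) (nat_lit 1),
  .both (nat_lit 34) (nat_lit 1),
  .both (nat_lit 50) (nat_lit 1),
  .both (nat_lit 68) (nat_lit 2),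
  .both (nat_lit 92) (nat_lit 2),
  .sym (nat_lit 6),
  .both (nat_lit 58) (nat_lit 1),
  .both (nat_lit 54) (nat_lit 1),
  .both (nat_lit 12) (nat_lit 1),
  .both (nat_lit 28) (nat_lit 2),
  .both (nat_lit 8) (nat_lit 1),
  .both (nat_lit 20) (nat_lit 1),
  .both (nat_lit 62) (nat_lit 2),
  .both (nat_lit 50) (nat_lit 1),
  .both (nat_lit 38) (nat_lit 1),
  .both (nat_lit 74) (nat_lit 2),
  .both (nat_lit 58) (nat_lit 1),
  .both (nat_lit 46) (nat_lit 1),
  .both (nat_lit 111) (nat_lit 5),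
  .both (nat_lit 34) (nat_lit 1),
  .both (nat_lit 98) (nat_lit 4),
  .both (nat_lit 42) (nat_lit 1)]

theorem run1 : sub (fullK B N 7) (runK B ns (ivT IVc 7) RT LT 144 125 st1 K1) = true := by
  decide +kernel

end

end CL.CGT.He.T2
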