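import Cfsg.Agent.CGT.He.T1
import Cfsg.Agent.CGT.He.T2
import Cfsg.Agent.CGT.HeM.Base

/-! Order and simplicity of the presented group `He`. -/

set_option maxRecDepth 100000

noncomputable section

namespace CL.CGT.He

theorem card_le {G : Type*} [Group G] {γ : ℕ → G} (hiv : ∀ c, γ (CL.CGT.He.iv0 c) = (γ c)⁻¹)
    (hb : ∀ r ∈ CL.CGT.He.base, wval γ r = 1) :
    Finite (gen γ T1.gens) ∧ Nat.card (gen γ T1.gens) ≤ 4030387200 :=
  have h : Finite (gen γ T2.gens) ∧ Nat.card (gen γ T2.gens) ≤ 49980 * (672 * 120) :=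
    card_le_step (T2.relIndex_le hiv hb) (gen_le_of_subL hiv (ids := [nat_lit 0, nat_lit 1, nat_lit 2,
    nat_lit 3, nat_lit 4, nat_lit 5]) (by decide +kernel)) (card_leV hiv hb)
  ⟨h.1, h.2.trans (by norm_num)⟩

end CL.CGT.He

namespace CL.CGT.He.T1

theorem gens_top : gen CL.CGT.He.γ gens = ⊤ := by
  rw [show gens = sgl 7 by decide +kernel, gen_sgl, CL.CGT.He.genLt_top]

theorem isCoset : IsCoset ρ (gen ρ.γ subs) 2058 :=
  isCoset_of ρ (good CL.CGT.He.hiv CL.CGT.He.hb) inv CL.CGT.He.genLt_top (gens := gens) (tree := [nat_lit 1,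
    nat_lit 2, nat_lit 3, nat_lit 4, nat_lit 5, nat_lit 6, nat_lit 2, nat_lit 3, nat_lit 4, nat_lit 5,
    nat_lit 6, nat_lit 1, nat_lit 2, nat_lit 3, nat_lit 4, nat_lit 5, nat_lit 6, nat_lit 1, nat_lit 2,
    nat_lit 3, nat_lit 4, nat_lit 5, nat_lit 6, nat_lit 1, nat_lit 2, nat_lit 3, nat_lit 4, nat_lit 5,
    nat_lit 6, nat_lit 1])
    (by decide +kernel)

def orbs : List (ℕ × List ℕ × ℕ) := [(nat_lit 1, [nat_lit 1, nat_lit 2, nat_lit 1, nat_lit 3, nat_lit 4,
    nat_lit 2, nat_lit 1, nat_lit 4, nat_lit 3, nat_lit 2, nat_lit 1, nat_lit 4, nat_lit 2, nat_lit 1,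
    nat_lit 6, nat_lit 2, nat_lit 4, nat_lit 2, nat_lit 1, nat_lit 3, nat_lit 2, nat_lit 1, nat_lit 4,
    nat_lit 3, nat_lit 2, nat_lit 1, nat_lit 6, nat_lit 0], nat_lit 1360),
  (nat_lit 2, [nat_lit 2, nat_lit 1, nat_lit 3, nat_lit 4, nat_lit 2, nat_lit 1, nat_lit 3, nat_lit 2,
    nat_lit 6, nat_lit 0, nat_lit 4, nat_lit 2, nat_lit 1, nat_lit 3, nat_lit 2, nat_lit 3, nat_lit 1,
    nat_lit 4, nat_lit 2, nat_lit 6], nat_lit 425),
  (nat_lit 46, [nat_lit 3, nat_lit 4, nat_lit 2, nat_lit 1, nat_lit 4, nat_lit 2, nat_lit 1, nat_lit 4,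
    nat_lit 2, nat_lit 3, nat_lit 6, nat_lit 0, nat_lit 4, nat_lit 2, nat_lit 3, nat_lit 1, nat_lit 2,
    nat_lit 1], nat_lit 136),
  (nat_lit 65, [nat_lit 0, nat_lit 1, nat_lit 3, nat_lit 2, nat_lit 1, nat_lit 3, nat_lit 4, nat_lit 2,
    nat_lit 1, nat_lit 4, nat_lit 3, nat_lit 2, nat_lit 1, nat_lit 2, nat_lit 6, nat_lit 4], nat_lit 136)]

theorem horbs : orbsOK ρ.ns subs 12 8 2058 orbs = true := by decide +kernel

theorem card : Finite Cfsg.Spor.He ∧ Nat.card Cfsg.Spor.He = 4030387200 ∧ ρ.Faithful 2058 :=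
  ρ.card_eq_of_chain (k := 12) (e := 8) (c :=
  .cons [[nat_lit 1],
  [nat_lit 6],
  [nat_lit 2],
  [nat_lit 3],
  [nat_lit 4],
  [nat_lit 5]] (nat_lit 0) [nat_lit 0, nat_lit 1, nat_lit 2, nat_lit 3, nat_lit 2, nat_lit 4, nat_lit 5,
    nat_lit 3, nat_lit 0, nat_lit 1, nat_lit 2, nat_lit 5, nat_lit 3, nat_lit 1, nat_lit 4, nat_lit 2,
    nat_lit 3, nat_lit 5, nat_lit 0, nat_lit 2, nat_lit 3, nat_lit 1, nat_lit 0, nat_lit 5] (nat_lit 2058) (
  .cons [[nat_lit 2],
  [nat_lit 3],
  [nat_lit 4],
  [nat_lit 5],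
  [nat_lit 1, nat_lit 2, nat_lit 3, nat_lit 6, nat_lit 3, nat_lit 2, nat_lit 1]] (nat_lit 1) [nat_lit 0,
    nat_lit 1, nat_lit 0, nat_lit 1, nat_lit 2, nat_lit 3, nat_lit 1, nat_lit 0, nat_lit 2, nat_lit 3,
    nat_lit 1, nat_lit 0, nat_lit 3, nat_lit 1, nat_lit 4, nat_lit 2, nat_lit 1, nat_lit 0, nat_lit 2,
    nat_lit 1, nat_lit 0, nat_lit 3, nat_lit 2, nat_lit 1, nat_lit 4, nat_lit 1, nat_lit 2] (nat_lit 1360) (
  .cons [[nat_lit 3],
  [nat_lit 4],
  [nat_lit 5],
  [nat_lit 2, nat_lit 3, nat_lit 1, nat_lit 2, nat_lit 3, nat_lit 6, nat_lit 3, nat_lit 2, nat_lit 3, nat_lit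
    2, nat_lit 3, nat_lit 6, nat_lit 3, nat_lit 2, nat_lit 3, nat_lit 1, nat_lit 2]] (nat_lit 15) [nat_lit 0,
    nat_lit 1, nat_lit 0, nat_lit 2, nat_lit 0, nat_lit 1, nat_lit 3, nat_lit 0, nat_lit 1, nat_lit 2,
    nat_lit 0, nat_lit 3, nat_lit 0, nat_lit 1] (nat_lit 360) (
  .cons [[nat_lit 0],
  [nat_lit 1, nat_lit 0, nat_lit 1, nat_lit 4]] (nat_lit 34) [nat_lit 0, nat_lit 1] (nat_lit 4) (
  .nil)))))
    (by decide +kernel) (gens_top ▸ CL.CGT.He.card_le CL.CGT.He.hiv CL.CGT.He.hb)

end CL.CGT.He.T1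

namespace CL.CGT.He

abbrev baseC : List (List ℕ) := appL base [[nat_lit 3, nat_lit 5, nat_lit 6]]

end CL.CGT.He

namespace CL.CGT.He.C

def n0 : Net :=
  .nil

def n1 : Net :=
  .nil

def n2 : Net :=
  .nil

def n3 : Net :=
  .nil

def n4 : Net :=
  .nil

def n5 : Net :=
  .nil

def n6 : Net :=
  .nil

def ns : List Net := [n0, n1, n2, n3, n4, n5, n6]

abbrev B : ℕ := 1

abbrev N : ℕ := 1

theorem ok : netsOK B ns = true := by decide +kernel

theorem inv : invOK B N 7 ns = true := by decide +kernel

def E : List (List ℕ × List ℕ) := [([nat_lit 0, nat_lit 0], []),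
  ([nat_lit 1, nat_lit 1], []),
  ([nat_lit 2, nat_lit 2], []),
  ([nat_lit 3, nat_lit 3], []),
  ([nat_lit 4, nat_lit 4], []),
  ([nat_lit 5, nat_lit 5], []),
  ([nat_lit 6, nat_lit 6], []),
  ([nat_lit 1, nat_lit 0, nat_lit 1, nat_lit 0], [nat_lit 0, nat_lit 1, nat_lit 0, nat_lit 1]),
  ([nat_lit 2, nat_lit 0], [nat_lit 0, nat_lit 2]),
  ([nat_lit 3, nat_lit 0], [nat_lit 0, nat_lit 3]),
  ([nat_lit 4, nat_lit 0], [nat_lit 0, nat_lit 4]),
  ([nat_lit 5, nat_lit 0], [nat_lit 0, nat_lit 5]),
  ([nat_lit 6, nat_lit 0], [nat_lit 0, nat_lit 6]),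
  ([nat_lit 2, nat_lit 1, nat_lit 2], [nat_lit 1, nat_lit 2, nat_lit 1]),
  ([nat_lit 3, nat_lit 1], [nat_lit 1, nat_lit 3]),
  ([nat_lit 4, nat_lit 1], [nat_lit 1, nat_lit 4]),
  ([nat_lit 5, nat_lit 1], [nat_lit 1, nat_lit 5]),
  ([nat_lit 6, nat_lit 1], [nat_lit 1, nat_lit 6]),
  ([nat_lit 3, nat_lit 2, nat_lit 3, nat_lit 2, nat_lit 3, nat_lit 2, nat_lit 3, nat_lit 2, nat_lit 3,
    nat_lit 2], [nat_lit 2, nat_lit 3, nat_lit 2, nat_lit 3, nat_lit 2, nat_lit 3, nat_lit 2, nat_lit 3,
    nat_lit 2, nat_lit 3]),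
  ([nat_lit 4, nat_lit 2], [nat_lit 2, nat_lit 4]),
  ([nat_lit 5, nat_lit 2], [nat_lit 2, nat_lit 5]),
  ([nat_lit 6, nat_lit 2], [nat_lit 2, nat_lit 6]),
  ([nat_lit 4, nat_lit 3, nat_lit 4], [nat_lit 3, nat_lit 4, nat_lit 3]),
  ([nat_lit 5, nat_lit 3, nat_lit 5], [nat_lit 3, nat_lit 5, nat_lit 3]),
  ([nat_lit 6, nat_lit 3, nat_lit 6], [nat_lit 3, nat_lit 6, nat_lit 3]),
  ([nat_lit 5, nat_lit 4], [nat_lit 4, nat_lit 5]),
  ([nat_lit 6, nat_lit 4], [nat_lit 4, nat_lit 6]),
  ([nat_lit 6, nat_lit 5, nat_lit 6, nat_lit 5], [nat_lit 5, nat_lit 6, nat_lit 5, nat_lit 6]),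
  ([nat_lit 5, nat_lit 6, nat_lit 5], [nat_lit 4, nat_lit 6]),
  ([nat_lit 0, nat_lit 1, nat_lit 2, nat_lit 0, nat_lit 1], [nat_lit 4, nat_lit 2, nat_lit 1, nat_lit 0,
    nat_lit 2]),
  ([nat_lit 2, nat_lit 3, nat_lit 2, nat_lit 3, nat_lit 2, nat_lit 3], [nat_lit 0, nat_lit 3, nat_lit 2,
    nat_lit 3, nat_lit 2]),
  ([nat_lit 6, nat_lit 5, nat_lit 3, nat_lit 2, nat_lit 6, nat_lit 5, nat_lit 3, nat_lit 2], [nat_lit 2,
    nat_lit 3, nat_lit 5, nat_lit 6, nat_lit 2, nat_lit 3, nat_lit 5, nat_lit 6]),
  ([nat_lit 3, nat_lit 5], [nat_lit 6])]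

theorem hE : ∀ e ∈ E, wval (pm ns) e.1 = wval (pm ns) e.2 :=
  wval_pm_eq_of_eqAll ok (w := 0) (by decide +kernel)

def cw : List (List ℕ) := [[nat_lit 0],
  [nat_lit 1],
  [nat_lit 2],
  [nat_lit 3],
  [nat_lit 4],
  [nat_lit 5],
  [nat_lit 6]]

def subs : List (List ℕ) := []

def IVc : ℕ := nat_lit 0x6050403020100

def RT : ℕ := nat_lit
    0x5060305060503060503030203020302030203020003020302030203020302040001020001020001020404050605060406040604060406050405040503050305030503040304030402060206020602050205020501060106010601050105010501030103010301020102010201020004000400040003000300030200020002010001000100010001050504040303020201010000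

def LT : ℕ := nat_lit
    0x300030000000000000003000000030000000000000000000000000000000000000000000b00000000000000000000000000000000000b0000000000000000000000000000000000000000000a00000000000000000000000500000000000000000004000000000000000000000000000400000000000000000000000000060000000000000000000000060000000000000004000000000000000000000004000000000000000000000004000000000000000000000004000000000000000000000004000000000000000000000000000000060000000000000000000000040000000000000000000000040000000000000000000000040000000000000000000000000000000000080000000000020000000200000002000000020000000200000002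

theorem setup : setupOK CL.CGT.He.iv0 CL.CGT.He.baseC cw ns IVc 7 E [] [nat_lit 33, nat_lit 33, nat_lit 33,
    nat_lit 33, nat_lit 33, nat_lit 33, nat_lit 33, nat_lit 1, nat_lit 2, nat_lit 3, nat_lit 4, nat_lit 5,
    nat_lit 6, nat_lit 8, nat_lit 9, nat_lit 10, nat_lit 11, nat_lit 12, nat_lit 14, nat_lit 15, nat_lit 16,
    nat_lit 17, nat_lit 19, nat_lit 20, nat_lit 21, nat_lit 23, nat_lit 24, nat_lit 26, nat_lit 28, nat_lit
    29, nat_lit 30, nat_lit 31, nat_lit 32] RT LT 148 (nat_lit
    0x100202000100102000000000000000000000000000000000202000000000000000002000000000000000000000000000000000000000000000000000000000000000000000000000000000000000000000000a01e00000000000000000000000000000000000000000000000000000000000000000000000000000101e00000000000000000000000000000000000000000000000000000000000000000000000000000000000000000000100101d00000000000000000000000000000000000000000000000100101c00000000000000000000000000000000000000000301a00000000000000000000000000000000000000000000000000000000000101900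000000000000000000000000000000000000000000000000000000000001700000000000000000000000000000000000000000000000000001600000000000000000000000000000000201500000000000000000000000000000000000000000000000000201400000000000000000000000000000000000000000000000000201100000000000000000000000000000000000000000000000000201000000000000000000000000000000000000000000000000000200e00000000000000000000000000000000000000000000000000000000000000000000200d00000000000000000000000000000000000000000000000000200a000000000000000000000000000000000000000000000000002009000000000000000000000000000000000000000000000000001008000000000000000000000000000000000000000000000000000000000000000000000000000001007000000000000000000000000005000000000000000004000000000000000003000000000000000002000000000000000001000000000000000000)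
    148 = true := by
  decide +kernel

theorem mask : maskOK CL.CGT.He.iv0 cw subs 0 7 [nat_lit 0, nat_lit 0, nat_lit 0, nat_lit 0, nat_lit 0,
    nat_lit 0, nat_lit 0] = true := by decide +kernel

def st0 : List Step := [.loc (nat_lit
    0x400000000000000ff000000000002000500000100000500060000050000000006000001000003000500000300000000040000020000000003000001000000)
    [nat_lit 7] [nat_lit 0, nat_lit 0, nat_lit 0, nat_lit 0x500020002008d, nat_lit 0, nat_lit
    0x9000200020091, nat_lit 0x300060008000b000900050066, nat_lit 0xd000300020009],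
  .loc (nat_lit
    0x300000000000000ff00000100000000040000010000010004000002000002000600000100000200050000020000000003000001000000)
    [nat_lit 6] [nat_lit 0, nat_lit 0, nat_lit 0x300020002008d, nat_lit 0x3000000040003005a, nat_lit
    0x50007000600030061, nat_lit 0x2000900010000000200090006004d, nat_lit 0xc000100020007],
  .loc (nat_lit 0x500000000000000ff000000000001000300000100000100060000000000010005000001000000) [nat_lit 4]
    [nat_lit 0, nat_lit 0x100000002008d, nat_lit 0x1000300020092, nat_lit 0x50001000000020005000100060053,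
    nat_lit 0x700010002000b],
  .both (nat_lit 138) (nat_lit 1),
  .loc (nat_lit
    0x100000000000000ff00000000000300ff00000d000001000200000300000d00ff00000d00000e000300000e00000e000600000e00000e000500000e00000e000200000e000003000000000d000003000200000000000100ff0000010000070003000007000007000600000700000700050000070000070002000007000000000600000300000300050000030000030003000003000003000100000300000000040000010000010000000001000000)
    [nat_lit 21] [nat_lit 0, nat_lit 0x10000000200030023, nat_lit 0, nat_lit 0x50000000600030031, nat_lit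
    0x50000000600030037, nat_lit 0x5000000060003003d, nat_lit 0, nat_lit 0xd0000000e00030043, nat_lit
    0xd0000000e00030049, nat_lit 0x11000f0002008b, nat_lit
    0x13000d0000000e0013000d0000000e0013000d0002000b0080, nat_lit 0x15000d00020005, nat_lit 0, nat_lit 0,
    nat_lit 0x1b0009001c00030043, nat_lit 0x1b000b001c00030049, nat_lit 0x1f001d0002008b, nat_lit
    0x21001b0007001c0021001b0007001c0021001b001a000b0080, nat_lit 0x23001b00020005, nat_lit
    0x3000100060025001900050017000100060025000a006c, nat_lit 0x1a0027000100030001, nat_lit 0x29000500020003],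
  .loc (nat_lit
    0xff00000000000100ff0000090000010000000009000009000200000900000900030000090000090001000009000001000200000000000100ff000001000003000300000300000300060000030000030005000003000003000200000300000000030000010000010000000001000000)
    [nat_lit 14] [nat_lit 0, nat_lit 0x1000000020003001d, nat_lit 0, nat_lit 0x50000000600030043, nat_lit
    0x50000000600030049, nat_lit 0x900070002008b, nat_lit
    0xb000500000006000b000500000006000b00050002000b0080, nat_lit 0xd000500020005, nat_lit 0, nat_lit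
    0x110003001200030031, nat_lit 0x1100100000000f001200050029, nat_lit
    0x13001500130015001300150013001500130015000a0080, nat_lit 0x1200170011000100000002001200170008000e,
    nat_lit 0x1a00170019000100040001, nat_lit 0x1b000100020001],
  .loc (nat_lit
    0x200000000000000ff00000100000000030000010000010006000001000001000500000100000100000000010000010002000001000000)
    [nat_lit 6] [nat_lit 0, nat_lit 0x10000000200030017, nat_lit 0x10000000200030043, nat_lit
    0x10000000200030049, nat_lit 0x700050002008b, nat_lit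
    0x20003000900010000000200090001000000020009000b0077, nat_lit 0xc000100020005]]

theorem run0 : sub (fullK B N 7) (runK B ns (ivT IVc 7) RT LT 148 0 st0 (treeK B ns [] 1 0)) = true := by
  decide +kernel

theorem good {G : Type*} [Group G] {γ : ℕ → G} (hiv : ∀ c, γ (CL.CGT.He.iv0 c) = (γ c)⁻¹)
    (hb : ∀ r ∈ CL.CGT.He.baseC, wval γ r = 1) :
    Good (colW γ cw) (gen γ subs) B ns (fullK B N 7) :=
  have hy := tcHyp_of hiv hb ok hE setup (mask_mem hiv mask)
  good_start hy run0

/-- the real columns. -/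
def gens : List (List ℕ) := [[nat_lit 0],
  [nat_lit 1],
  [nat_lit 2],
  [nat_lit 3],
  [nat_lit 4],
  [nat_lit 5],
  [nat_lit 6]]

theorem relIndex_le {G : Type*} [Group G] {γ : ℕ → G} (hiv : ∀ c, γ (CL.CGT.He.iv0 c) = (γ c)⁻¹)
    (hb : ∀ r ∈ CL.CGT.He.baseC, wval γ r = 1) :
    (gen γ subs).relIndex (gen γ gens) ≠ 0 ∧ (gen γ subs).relIndex (gen γ gens) ≤ 1 := by
  have h := (good hiv hb).relIndex_le ok inv
  rwa [genLt_colW] at h

end CL.CGT.He.C

namespace CL.CGT.He.T1

theorem simple : IsSimpleGroup Cfsg.Spor.He :=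
  isCoset.isSimpleGroup (m := 1958400) (p := 7) card horbs (by decide +kernel) CL.CGT.He.hiv CL.CGT.He.hb
    gens_top
    (card.2.2.pow_eq_one (w := 12) (by decide +kernel)) CL.CGT.He.C.relIndex_le

end CL.CGT.He.T1

end
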