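import Cfsg.Agent.CGT.He.T2E0

set_option maxRecDepth 100000

namespace CL.CGT.He.T2

noncomputable section

theorem hE0 : ∀ e ∈ (takeL 32 (dropL 0 E)), wval (pm ns) e.1 = wval (pm ns) e.2 :=
  wval_pm_eq_of_eqRange ok (w := 16) (by decide) (eqRange_cons eq0_0 (j' := 6) rfl (eqRange_cons eq0_6 (j' :=
    12) rfl (eqRange_cons eq0_12 (j' := 16) rfl (eqRange_end))))

theorem hE : ∀ e ∈ E, wval (pm ns) e.1 = wval (pm ns) e.2 :=
  forall_start (forall_split hE0 (k' := 32) rfl (forall_end (by decide +kernel)))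

end

end CL.CGT.He.T2
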