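import Cfsg.Agent.CGT.He.T2N

set_option maxRecDepth 100000

namespace CL.CGT.He.T2

noncomputable section

theorem eq0_0 : eqRange ns B 16 (takeL 32 (dropL 0 E)) 0 6 = true := by decide +kernel

theorem eq0_6 : eqRange ns B 16 (takeL 32 (dropL 0 E)) 6 6 = true := by decide +kernel

theorem eq0_12 : eqRange ns B 16 (takeL 32 (dropL 0 E)) 12 4 = true := by decide +kernel

end

end CL.CGT.He.T2
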